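import Groth.Agent.ResProp.EF.K807.KillHH
import Groth.Agent.ResProp.EF.K265.HH

/-!
# `K265.StmtKillHH` (G2 for the real group), adapter (helper807)
-/

set_option autoImplicit false

universe u

noncomputable section

namespace Groth.Agent.ResProp.EF.K807.KillHHG

/-- **`K265.StmtKillHH`** -/
theorem stmtKillHH : K265.StmtKillHH.{u} := fun p _ _ N r1 rm _ => KillHH.kill_HH p N r1 rm

end Groth.Agent.ResProp.EF.K807.KillHHG
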