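import Groth.Agent.ResProp.EF.K86.EqGen
import Groth.Agent.ResProp.EF.K542.Rad

/-!
# P5 (G1): finitely many elements of a stable ideal are coefficients of a finite free comodule

* `exists_matrix`: the matrix `R` of a comodule with a finite basis: `ρ b_j = ∑ b_i ⊗ R_ij`, `Δ R_ij = ∑ R_il ⊗ R_lj`,
  `ε R_ij = δ_ij`.
* `exists_phi`: `S` finite in a subcomodule `I` of `B`: there are `φ : Fin (N+1) → B` in `I` and `R` with `S ⊆ span φ`.
* `exists_phi_radical`: the same for `√J`, `J` an ideal of a comodule algebra with `ρ J ⊆ √(J (B ⊗ O))`, `O` keeping reducedness.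
* `mul_antipode`: `R · S(R) = 1`.
-/

set_option autoImplicit false

universe u v w

open TensorProduct

namespace Groth.Agent.ResProp.EF.K807.P5

open Grp

section Matrix

variable {k : Type*} [CommRing k] {O : Type*} [AddCommGroup O] [Module k O] [Coalgebra k O]
  {L : Type*} [AddCommGroup L] [Module k L] {ι : Type*} [Fintype ι]

/-- coefficients with respect to a basis -/
noncomputable def coef (b : Module.Basis ι k L) (P : Type*) [AddCommGroup P] [Module k P] (i : ι) : L ⊗[k] P →ₗ[k] P :=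
  (TensorProduct.lid k P).toLinearMap ∘ₗ (b.coord i).rTensor P

@[simp] theorem coef_tmul (b : Module.Basis ι k L) (P : Type*) [AddCommGroup P] [Module k P] (i : ι) (v : L) (a : P) :
    coef b P i (v ⊗ₜ a) = b.coord i v • a := by
  simp [coef]

theorem sum_coef (b : Module.Basis ι k L) (P : Type*) [AddCommGroup P] [Module k P] (x : L ⊗[k] P) :
    ∑ i, b i ⊗ₜ[k] coef b P i x = x := by
  induction x with
  | zero => simp
  | add x y hx hy =>
    simp only [map_add, TensorProduct.tmul_add, Finset.sum_add_distrib, hx, hy]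
  | tmul v a =>
    simp only [coef_tmul, ← TensorProduct.smul_tmul]
    rw [← TensorProduct.sum_tmul]
    congr 1
    exact b.sum_repr v

theorem eq_of_sum_eq [DecidableEq ι] (b : Module.Basis ι k L) (P : Type*) [AddCommGroup P] [Module k P] {x y : ι → P}
    (h : ∑ i, b i ⊗ₜ[k] x i = ∑ i, b i ⊗ₜ[k] y i) (i : ι) : x i = y i := by
  have h1 := congrArg (coef b P i) h
  simp only [map_sum, coef_tmul, Module.Basis.coord_apply, Module.Basis.repr_self, Finsupp.single_apply, ite_smul,
    one_smul, zero_smul, Finset.sum_ite_eq', Finset.mem_univ, if_true] at h1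
  exact h1

/-- **the matrix of a comodule with a finite basis** -/
theorem exists_matrix [DecidableEq ι] (c : HopfRep.Comod k O L) (b : Module.Basis ι k L) :
    ∃ R : Matrix ι ι O, (∀ j, c.coact (b j) = ∑ i, b i ⊗ₜ[k] R i j) ∧
      (∀ i j, CoalgebraStruct.comul (R := k) (R i j) = ∑ l, R i l ⊗ₜ[k] R l j) ∧
      ∀ i j, CoalgebraStruct.counit (R := k) (R i j) = if i = j then (1 : k) else 0 := by
  refine ⟨fun i j => coef b O i (c.coact (b j)), fun j => (sum_coef b O _).symm, fun i j => ?_, fun i j => ?_⟩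
  · have h1 := LinearMap.congr_fun c.coassoc (b j)
    simp only [LinearMap.comp_apply, LinearEquiv.coe_coe] at h1
    have e : c.coact (b j) = ∑ i, b i ⊗ₜ[k] coef b O i (c.coact (b j)) := (sum_coef b O _).symm
    rw [e] at h1
    simp only [map_sum, LinearMap.rTensor_tmul, LinearMap.lTensor_tmul] at h1
    have h2 : ∀ l : ι, (TensorProduct.assoc k L O O) (c.coact (b l) ⊗ₜ[k] coef b O l (c.coact (b j))) =
        ∑ i, b i ⊗ₜ[k] (coef b O i (c.coact (b l)) ⊗ₜ[k] coef b O l (c.coact (b j))) := by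
      intro l
      conv_lhs => rw [← sum_coef b O (c.coact (b l))]
      simp only [TensorProduct.sum_tmul, map_sum, TensorProduct.assoc_tmul]
    simp only [h2] at h1
    rw [Finset.sum_comm] at h1
    simp only [← TensorProduct.tmul_sum] at h1
    exact (eq_of_sum_eq b (O ⊗[k] O) h1 i).symm
  · have h1 := LinearMap.congr_fun c.counit_comp (b j)
    simp only [LinearMap.comp_apply, LinearMap.flip_apply, TensorProduct.mk_apply] at h1
    have e : c.coact (b j) = ∑ i, b i ⊗ₜ[k] coef b O i (c.coact (b j)) := (sum_coef b O _).symm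
    rw [e] at h1
    simp only [map_sum, LinearMap.lTensor_tmul] at h1
    have h3 : (b j) ⊗ₜ[k] (1 : k) = ∑ i, b i ⊗ₜ[k] (if i = j then (1 : k) else 0) := by
      simp [TensorProduct.tmul_ite]
    rw [h3] at h1
    exact eq_of_sum_eq b k h1 i

end Matrix

section Main

variable {k : Type u} [CommRing k]

/-- **P5, comodule part**. -/
theorem exists_phi' (E : Gp k) (hS : SerreCover E) {B : Type u} [AddCommGroup B] [Module k B]
    (c : HopfRep.Comod k E.O B) (I : Submodule k B) (hI : @HopfRep.IsSubcomod k E.O _ _ _ _ B _ _ c I)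
    (S : Set B) (hfin : S.Finite) (hSI : S ⊆ I) :
    ∃ (N : ℕ) (φ : Fin N → B) (R : Matrix (Fin N) (Fin N) E.O), (∀ j, φ j ∈ I) ∧
      S ⊆ Submodule.span k (Set.range φ) ∧
      (∀ j, c.coact (φ j) = ∑ i, φ i ⊗ₜ[k] R i j) ∧
      (∀ i j, CoalgebraStruct.comul (R := k) (R i j) = ∑ l, R i l ⊗ₜ[k] R l j) ∧
      ∀ i j, CoalgebraStruct.counit (R := k) (R i j) = if i = j then (1 : k) else 0 := by
  obtain ⟨L, h1, h2, q, hq, hr, hSr⟩ := K86.exists_lattice E hS ⟨B⟩ I hI S hfin hSI
  obtain ⟨N, ⟨b⟩⟩ : ∃ N : ℕ, Nonempty (Module.Basis (Fin N) k L.V) := by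
    cases subsingleton_or_nontrivial k with
    | inl h =>
      have : Subsingleton L.V := Module.subsingleton k L.V
      exact ⟨0, ⟨Module.Basis.empty _⟩⟩
    | inr h => exact ⟨_, ⟨Module.finBasis k L.V⟩⟩
  obtain ⟨R, hR1, hR2, hR3⟩ := exists_matrix L.co b
  refine ⟨N, fun j => q (b j), R, fun j => hr ⟨_, rfl⟩, ?_, fun j => ?_, hR2, hR3⟩
  · intro x hx
    obtain ⟨y, rfl⟩ := hSr hx
    rw [← b.sum_repr y, map_sum]
    refine Submodule.sum_mem _ fun i _ => ?_
    rw [map_smul]
    exact Submodule.smul_mem _ _ (Submodule.subset_span ⟨i, rfl⟩)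
  · have h3 := LinearMap.congr_fun hq (b j)
    simp only [LinearMap.comp_apply] at h3
    have h4 : c.coact (q (b j)) = q.rTensor E.O (L.co.coact (b j)) := h3
    rw [h4, hR1 j]
    simp only [map_sum, LinearMap.rTensor_tmul]

/-- adding a zero: nonempty index set -/
theorem exists_phi (E : Gp k) (hS : SerreCover E) {B : Type u} [AddCommGroup B] [Module k B]
    (c : HopfRep.Comod k E.O B) (I : Submodule k B) (hI : @HopfRep.IsSubcomod k E.O _ _ _ _ B _ _ c I)
    (S : Set B) (hfin : S.Finite) (hSI : S ⊆ I) :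
    ∃ (N : ℕ) (φ : Fin (N + 1) → B) (R : Matrix (Fin (N + 1)) (Fin (N + 1)) E.O), (∀ j, φ j ∈ I) ∧
      S ⊆ Submodule.span k (Set.range φ) ∧
      (∀ j, c.coact (φ j) = ∑ i, φ i ⊗ₜ[k] R i j) ∧
      (∀ i j, CoalgebraStruct.comul (R := k) (R i j) = ∑ l, R i l ⊗ₜ[k] R l j) ∧
      ∀ i j, CoalgebraStruct.counit (R := k) (R i j) = if i = j then (1 : k) else 0 := by
  obtain ⟨N, φ, R, h1, h2, h3, h4, h5⟩ := exists_phi' E hS c I hI S hfin hSI
  refine ⟨N, Fin.cons 0 φ, Matrix.of (Fin.cons (Fin.cons 1 (fun _ => 0)) (fun i => Fin.cons 0 (R i))), ?_, ?_, ?_, ?_, ?_⟩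
  · intro j
    refine Fin.cases ?_ (fun j => ?_) j
    · simp
    · simpa using h1 j
  · refine h2.trans (Submodule.span_mono ?_)
    rintro _ ⟨j, rfl⟩
    exact ⟨j.succ, by simp⟩
  · intro j
    refine Fin.cases ?_ (fun j => ?_) j
    · rw [Fin.sum_univ_succ]
      simp
    · rw [Fin.sum_univ_succ]
      simp [h3 j]
  · intro i j
    refine Fin.cases ?_ (fun i => ?_) i <;> refine Fin.cases ?_ (fun j => ?_) j
    · rw [Fin.sum_univ_succ]
      simp [Algebra.TensorProduct.one_def]
    · simp [Fin.sum_univ_succ]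
    · simp [Fin.sum_univ_succ]
    · simp [Fin.sum_univ_succ, h4 i j]
  · intro i j
    refine Fin.cases ?_ (fun i => ?_) i <;> refine Fin.cases ?_ (fun j => ?_) j
    · simp
    · simp [Ne.symm (Fin.succ_ne_zero _)]
    · simp [Fin.succ_ne_zero]
    · simp [h5 i j]

/-- **P5 for the radical of an ideal of a comodule algebra** -/
theorem exists_phi_radical (E : Gp k) (hS : SerreCover E) (hO : K542.KeepsRed k E.O) {B : Type u} [CommRing B]
    [Algebra k B] (ρ : B →ₐ[k] B ⊗[k] E.O) (c : HopfRep.Comod k E.O B) (hc : ∀ x, c.coact x = ρ x) (J : Ideal B)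
    (hJ : ∀ b ∈ J, ρ b ∈ (J.map (Algebra.TensorProduct.includeLeft (R := k) (S := k) (A := B) (B := E.O))).radical)
    (S : Set B) (hfin : S.Finite) (hSJ : S ⊆ J.radical) :
    ∃ (N : ℕ) (φ : Fin (N + 1) → B) (R : Matrix (Fin (N + 1)) (Fin (N + 1)) E.O), (∀ j, φ j ∈ J.radical) ∧
      S ⊆ Submodule.span k (Set.range φ) ∧
      (∀ j, ρ (φ j) = ∑ i, φ i ⊗ₜ[k] R i j) ∧
      (∀ i j, CoalgebraStruct.comul (R := k) (R i j) = ∑ l, R i l ⊗ₜ[k] R l j) ∧
      ∀ i j, CoalgebraStruct.counit (R := k) (R i j) = if i = j then (1 : k) else 0 := by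
  obtain ⟨N, φ, R, h1, h2, h3, h4, h5⟩ := exists_phi E hS c (J.radical.restrictScalars k)
    (fun w hw => by
      rw [hc]
      exact K542.rho_radical_range hO ρ J hJ hw) S hfin hSJ
  exact ⟨N, φ, R, h1, h2, fun j => by rw [← hc]; exact h3 j, h4, h5⟩

end Main

/-- `R · S(R) = 1` for a multiplicative matrix over a Hopf algebra -/
theorem mul_antipode {k : Type*} [CommRing k] {O : Type*} [CommRing O] [HopfAlgebra k O] {ι : Type*} [Fintype ι]
    [DecidableEq ι] (R : Matrix ι ι O)
    (h4 : ∀ i j, CoalgebraStruct.comul (R := k) (R i j) = ∑ l, R i l ⊗ₜ[k] R l j)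
    (h5 : ∀ i j, CoalgebraStruct.counit (R := k) (R i j) = if i = j then (1 : k) else 0) :
    R * R.map (HopfAlgebraStruct.antipode k (A := O)) = 1 := by
  ext i j
  have h := HopfAlgebra.mul_antipode_lTensor_comul_apply (R := k) (R i j)
  rw [h4, h5] at h
  simp only [map_sum, LinearMap.lTensor_tmul, LinearMap.mul'_apply] at h
  rw [Matrix.mul_apply, Matrix.one_apply]
  simp only [Matrix.map_apply]
  rw [h]
  split_ifs <;> simp

end Groth.Agent.ResProp.EF.K807.P5
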