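import Groth.Agent.ResProp.EF.K374.StabProd
import Groth.Agent.ResProp.EF.K274.Red
import Groth.Agent.ResProp.EF.K65.Final2
import Groth.Agent.ResProp.EF.K711.Tors
import Groth.Agent.ResProp.EF.K624.Final0
import Groth.Agent.ResProp.EF.K187.OneStepFinal
import Groth.Agent.ResProp.EF.K41.PhiHH

/-!
# `Kill (Stab(e_0) × GL_r1 × GL_rm)` (output of G2 for G1), no hypothesis left
-/

set_option autoImplicit false

universe u

open TensorProduct

namespace Groth.Agent.ResProp.EF.K807.KillHH

open Grp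

variable {k : Type u} [CommRing k] (p : ℕ) [hk : IsLb p k]

/-- `O(Stab(e_0)) / p` is reduced -/
theorem redP_St (t : ℕ) : K274.RedP p (K374.St k t).O :=
  K274.RedP.of_mvPolynomial (A := K58.Fr (0 : Fin (t + 1)) (K374.e0v k t)) (K274.prime_of_isLb (k := k)) _
    (Submonoid.powers (K58.mat0 (0 : Fin (t + 1)) (K374.e0v k t)).det)

/-- `O(GL_n) / p` is reduced -/
theorem redP_GL (n : ℕ) : K274.RedP p (K653.GpGL n k).O := by
  let _ := (K653.FreeGLn.polyTo n k).toRingHom.toAlgebra
  have : IsLocalization (Submonoid.powers (Matrix.det (Matrix.mvPolynomialX (Fin n) (Fin n) k)))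
    (CoordGrp.GLn n k) := K653.FreeGLn.isLocalization_GLn n k
  exact K274.RedP.of_mvPolynomial (A := CoordGrp.GLn n k) (K274.prime_of_isLb (k := k)) _
    (Submonoid.powers (Matrix.det (Matrix.mvPolynomialX (Fin n) (Fin n) k)))

/-- `RedModP` for `Stab × GL_r1 × GL_rm` -/
theorem redModP_HH (t r1 rm : ℕ) :
    RedModP p (K374.HH k t (K749.prodGp (K653.GpGL r1 k) (K653.GpGL rm k))) :=
  K274.redModP_of_redP _ (K274.RedP.tensor hk.prime hk.res (redP_St p t)
    (K274.RedP.tensor hk.prime hk.res (redP_GL p r1) (redP_GL p rm)))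

/-- `Out` for the big group `GL_{t+1} × (GL_t × (GL_r1 × GL_rm))` -/
theorem out_GG (t r1 rm : ℕ) :
    K749.Out p (K374.GG k t (K749.prodGp (K653.GpGL r1 k) (K653.GpGL rm k))) :=
  K749.outProd p k _ _ (K65.outGL p (t + 1)) (K749.outProd p k _ _ (K65.outGL p t)
    (K749.outProd p k _ _ (K65.outGL p r1) (K65.outGL p rm)))

include hk in
/-- the general form: any `G'` with `Out` and `RedP` -/
theorem kill_of_stabData (t : ℕ) (G' : Gp k) (hO : K749.Out p G') (hR : K274.RedP p G'.O)
    (φ : (K374.GG k t G').O →ₐc[k] (K374.HH k t G').O) (D : K711.StabData φ t) : Kill (K374.HH k t G') := by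
  have : IsDomain k := hk.dom
  have : CharZero k := hk.char0
  exact K624.kill_of_hasOneStep p _
    (K274.redModP_of_redP _ (K274.RedP.tensor hk.prime hk.res (redP_St p t) hR))
    (K65.killModP_of p _ _ φ
      (K711.cd2_of_stabData φ p hk.prime (K711.isMaximal_of_isLb p) t D)
      (K749.outProd p k _ _ (K65.outGL p (t + 1)) (K749.outProd p k _ _ (K65.outGL p t) hO)))
    (fun E => K187.hasOneStep E)

include hk in
/-- **Kill** for `Stab(e_0) × G'` -/
theorem kill_St_prod (t : ℕ) (G' : Gp k) (hO : K749.Out p G') (hR : K274.RedP p G'.O) : Kill (K374.HH k t G') :=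
  kill_of_stabData p t G' hO hR (K41.phiHH k t G') (K41.stabDataHH k t G')

include hk in
/-- **Kill** for `Stab(e_0) × (GL_r1 × GL_rm)` -/
theorem kill_HH (t r1 rm : ℕ) : Kill (K374.HH k t (K749.prodGp (K653.GpGL r1 k) (K653.GpGL rm k))) :=
  kill_St_prod p t _ (K749.outProd p k _ _ (K65.outGL p r1) (K65.outGL p rm))
    (K274.RedP.tensor hk.prime hk.res (redP_GL p r1) (redP_GL p rm))

/-- **StmtKillHH** of the cover datum -/
theorem stmtKillHH : ∀ (p : ℕ) (k : Type u) [CommRing k] (t r1 rm : ℕ) [IsLb p k],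
    Kill (K374.HH k t (K749.prodGp (K653.GpGL r1 k) (K653.GpGL rm k))) :=
  fun p _ _ t r1 rm _ => kill_HH p t r1 rm

end Groth.Agent.ResProp.EF.K807.KillHH
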