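import Groth.Agent.ResProp.EF.K412.Out

/-!
# Node R1: the ring level groupoid of a groupoid ring (helper807)
-/

set_option autoImplicit false

universe u

open CategoryTheory CategoryTheory.Limits Opposite
open Groth.Agent.Grpsch.AffGrpd EF56 K784.BC K784.PM K741.RP

noncomputable section

namespace Groth.Agent.ResProp.EF.K807.R1

/-- the edge `(i, j)` -/
def edge {n : ℕ} (i j : Fin (n + 1)) : (⟨n⟩ : NF) ⟶ ⟨1⟩ := (![i, j] : Fin 2 → Fin (n + 1))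

/-- the 2-simplex `(i, j, k)` -/
def tri {n : ℕ} (i j k : Fin (n + 1)) : (⟨n⟩ : NF) ⟶ ⟨2⟩ := (![i, j, k] : Fin 3 → Fin (n + 1))

theorem edge_pt0 {n : ℕ} (i j : Fin (n + 1)) : edge i j ≫ pt ⟨1⟩ 0 = pt ⟨n⟩ i := by
  funext x; rfl

theorem edge_pt1 {n : ℕ} (i j : Fin (n + 1)) : edge i j ≫ pt ⟨1⟩ 1 = pt ⟨n⟩ j := by
  funext x; rfl

theorem pr_zero : pr ⟨0⟩ = pt ⟨1⟩ 0 := by
  funext x; fin_cases x; rfl

theorem lst_zero : lst ⟨0⟩ = pt ⟨1⟩ 1 := by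
  funext x; fin_cases x; rfl

theorem tri_edge {n : ℕ} (v : Fin 3 → Fin (n + 1)) (i j : Fin 3) :
    ((show (⟨n⟩ : NF) ⟶ ⟨2⟩ from v) ≫ edge i j : (⟨n⟩ : NF) ⟶ ⟨1⟩) = edge (v i) (v j) := by
  funext x; fin_cases x <;> rfl

variable (A : NFᵒᵖ ⥤ CommRingCat.{u}) {T : Type u} [CommRing T]

/-- the edge of a `T`-point -/
abbrev E {n : ℕ} (χ : A.obj (op ⟨n⟩) →+* T) (i j : Fin (n + 1)) : A.obj (op ⟨1⟩) →+* T :=
  χ.comp (rg A (edge i j))

variable {A} (hA : GR A)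

include hA in
/-- the simplex with the face `χ` and the last edge `γ` -/
theorem exists_ext {n : ℕ} (l : Fin (n + 1)) (χ : A.obj (op ⟨n⟩) →+* T) (γ : A.obj (op ⟨1⟩) →+* T)
    (h : χ.comp (rg A (pt ⟨n⟩ l)) = γ.comp (rg A (pr ⟨0⟩))) :
    ∃! ψ : A.obj (op ⟨n + 1⟩) →+* T, ψ.comp (rg A (pr ⟨n⟩)) = χ ∧
      ψ.comp (rg A (edge (n := n + 1) l.castSucc (Fin.last (n + 1)))) = γ := by
  have sq := hA.po (pt ⟨n⟩ l)
  have e : (wmap (pt ⟨n⟩ l) : (⟨n + 1⟩ : NF) ⟶ ⟨1⟩) = edge (n := n + 1) l.castSucc (Fin.last (n + 1)) := by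
    funext x; fin_cases x <;> rfl
  rw [e] at sq
  have sq' : IsPushout _ _ _ _ := sq
  refine ⟨(sq'.desc (CommRingCat.ofHom χ) (CommRingCat.ofHom γ) ?_).hom, ⟨?_, ?_⟩, ?_⟩
  · exact CommRingCat.hom_ext h
  · exact congrArg CommRingCat.Hom.hom (sq'.inl_desc (CommRingCat.ofHom χ) (CommRingCat.ofHom γ) _)
  · exact congrArg CommRingCat.Hom.hom (sq'.inr_desc (CommRingCat.ofHom χ) (CommRingCat.ofHom γ) _)
  · rintro ψ ⟨h1, h2⟩
    have : CommRingCat.ofHom ψ = sq'.desc (CommRingCat.ofHom χ) (CommRingCat.ofHom γ) (CommRingCat.hom_ext h) := by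
      apply sq'.hom_ext
      · rw [sq'.inl_desc]; exact CommRingCat.hom_ext h1
      · rw [sq'.inr_desc]; exact CommRingCat.hom_ext h2
    exact congrArg CommRingCat.Hom.hom this

include hA in
theorem exists_two (α β : A.obj (op ⟨1⟩) →+* T)
    (h : α.comp (rg A (pr ⟨0⟩)) = β.comp (rg A (lst ⟨0⟩))) :
    ∃! χ : A.obj (op ⟨2⟩) →+* T, E A χ 0 1 = β ∧ E A χ 1 2 = α := by
  have := exists_ext hA (n := 1) 1 β α (by rw [← lst_zero]; exact h.symm)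
  have e : (pr ⟨1⟩ : (⟨2⟩ : NF) ⟶ ⟨1⟩) = edge (n := 2) 0 1 := by
    funext x; fin_cases x <;> rfl
  rw [e] at this
  exact this

/-- composition of points -/
def cp (α β : A.obj (op ⟨1⟩) →+* T) (h : α.comp (rg A (pr ⟨0⟩)) = β.comp (rg A (lst ⟨0⟩))) :
    A.obj (op ⟨1⟩) →+* T :=
  E A (exists_two hA α β h).choose 0 2

theorem cp_eq (χ : A.obj (op ⟨2⟩) →+* T) (α β : A.obj (op ⟨1⟩) →+* T) (h1 : E A χ 0 1 = β) (h2 : E A χ 1 2 = α)
    (h : α.comp (rg A (pr ⟨0⟩)) = β.comp (rg A (lst ⟨0⟩))) : cp hA α β h = E A χ 0 2 := by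
  have e : (exists_two hA α β h).choose = χ :=
    ((exists_two hA α β h).choose_spec.2 χ ⟨h1, h2⟩).symm
  rw [cp, e]

theorem E_s {n : ℕ} (χ : A.obj (op ⟨n⟩) →+* T) (i j : Fin (n + 1)) :
    (E A χ i j).comp (rg A (pr ⟨0⟩)) = χ.comp (rg A (pt ⟨n⟩ i)) := by
  rw [RingHom.comp_assoc, ← rg_comp, pr_zero, edge_pt0]

theorem E_t {n : ℕ} (χ : A.obj (op ⟨n⟩) →+* T) (i j : Fin (n + 1)) :
    (E A χ i j).comp (rg A (lst ⟨0⟩)) = χ.comp (rg A (pt ⟨n⟩ j)) := by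
  rw [RingHom.comp_assoc, ← rg_comp, lst_zero, edge_pt1]

theorem E_tri {n : ℕ} (χ : A.obj (op ⟨n⟩) →+* T) (v : Fin 3 → Fin (n + 1)) (i j : Fin 3) :
    E A (χ.comp (rg A (show (⟨n⟩ : NF) ⟶ ⟨2⟩ from v))) i j = E A χ (v i) (v j) := by
  rw [E, E, RingHom.comp_assoc, ← rg_comp, tri_edge]

theorem cp_edges {n : ℕ} (χ : A.obj (op ⟨n⟩) →+* T) (i j l : Fin (n + 1)) (α β : A.obj (op ⟨1⟩) →+* T)
    (hα : E A χ j l = α) (hβ : E A χ i j = β) (h : α.comp (rg A (pr ⟨0⟩)) = β.comp (rg A (lst ⟨0⟩))) :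
    cp hA α β h = E A χ i l := by
  rw [cp_eq hA (χ.comp (rg A (show (⟨n⟩ : NF) ⟶ ⟨2⟩ from (![i, j, l] : Fin 3 → Fin (n + 1))))) α β
    ((E_tri χ _ 0 1).trans hβ) ((E_tri χ _ 1 2).trans hα)]
  exact E_tri χ _ 0 2

/-- **the groupoid** -/
def grpd : RGrpd (A.obj (op ⟨0⟩)) (A.obj (op ⟨1⟩)) where
  s := rg A (pr ⟨0⟩)
  t := rg A (lst ⟨0⟩)
  e := rg A (edge (n := 0) 0 0)
  i := rg A (edge (n := 1) 1 0)
  comp α β h := cp hA α β h
  comp_s α β h := by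
    obtain ⟨χ, ⟨rfl, rfl⟩, -⟩ := exists_two hA α β h
    rw [cp_eq hA χ _ _ rfl rfl, E_s, E_s]
  comp_t α β h := by
    obtain ⟨χ, ⟨rfl, rfl⟩, -⟩ := exists_two hA α β h
    rw [cp_eq hA χ _ _ rfl rfl, E_t, E_t]
  comp_nat f α β h := by
    obtain ⟨χ, ⟨rfl, rfl⟩, -⟩ := exists_two hA α β h
    rw [cp_eq hA χ _ _ rfl rfl, cp_eq hA (f.comp χ) _ _ (RingHom.comp_assoc _ _ _) (RingHom.comp_assoc _ _ _)]
    exact (RingHom.comp_assoc _ _ _).symm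
  assoc {T} _ α β γ h₁ h₂ := by
    obtain ⟨χ, ⟨h01, h12⟩, -⟩ := exists_two hA β γ h₂
    obtain ⟨ψ, ⟨hχ, h23⟩, -⟩ := exists_ext hA (n := 2) 2 χ α (by
      rw [← E_t χ 1 2, h12]
      exact h₁.symm)
    have e01 : E A ψ 0 1 = γ := by
      rw [← h01, ← hχ, E, E, RingHom.comp_assoc, ← rg_comp]
      congr 2
      funext x; fin_cases x <;> rfl
    have e12 : E A ψ 1 2 = β := by
      rw [← h12, ← hχ, E, E, RingHom.comp_assoc, ← rg_comp]
      congr 2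
      funext x; fin_cases x <;> rfl
    have e23 : E A ψ 2 3 = α := h23
    have e13 : cp hA α β h₁ = E A ψ 1 3 := cp_edges hA ψ 1 2 3 α β e23 e12 h₁
    have e02 : cp hA β γ h₂ = E A ψ 0 2 := cp_edges hA ψ 0 1 2 β γ e12 e01 h₂
    rw [cp_edges hA ψ 0 1 3 _ γ e13.symm e01, cp_edges hA ψ 0 2 3 α _ e23 e02.symm]
  e_s := by
    rw [← rg_comp, ← rg_id]
    congr 1
    funext x; fin_cases x; rfl
  e_t := by
    rw [← rg_comp, ← rg_id]
    congr 1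
    funext x; fin_cases x; rfl
  comp_e α := by
    have e1 : E A α 0 1 = α := by
      have : edge (n := 1) 0 1 = 𝟙 _ := by funext x; fin_cases x <;> rfl
      rw [E, this, rg_id, RingHom.comp_id]
    have e0 : E A α 0 0 = (α.comp (rg A (pr ⟨0⟩))).comp (rg A (edge (n := 0) 0 0)) := by
      rw [E, RingHom.comp_assoc, ← rg_comp]
      congr 2
      funext x; fin_cases x <;> rfl
    rw [cp_edges hA α 0 0 1 _ _ e1 e0, e1]
  e_comp α := by
    have e1 : E A α 0 1 = α := by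
      have : edge (n := 1) 0 1 = 𝟙 _ := by funext x; fin_cases x <;> rfl
      rw [E, this, rg_id, RingHom.comp_id]
    have e0 : E A α 1 1 = (α.comp (rg A (lst ⟨0⟩))).comp (rg A (edge (n := 0) 0 0)) := by
      rw [E, RingHom.comp_assoc, ← rg_comp]
      congr 2
      funext x; fin_cases x <;> rfl
    rw [cp_edges hA α 0 1 1 _ _ e0 e1, e1]
  i_s := by
    rw [← rg_comp]
    congr 1
    funext x; fin_cases x; rfl
  i_t := by
    rw [← rg_comp]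
    congr 1
    funext x; fin_cases x; rfl
  comp_i α := by
    have e1 : E A α 0 1 = α := by
      have : edge (n := 1) 0 1 = 𝟙 _ := by funext x; fin_cases x <;> rfl
      rw [E, this, rg_id, RingHom.comp_id]
    have e0 : E A α 1 1 = (α.comp (rg A (lst ⟨0⟩))).comp (rg A (edge (n := 0) 0 0)) := by
      rw [E, RingHom.comp_assoc, ← rg_comp]
      congr 2
      funext x; fin_cases x <;> rfl
    rw [cp_edges hA α 1 0 1 _ _ e1 rfl, e0]
  i_comp α := by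
    have e1 : E A α 0 1 = α := by
      have : edge (n := 1) 0 1 = 𝟙 _ := by funext x; fin_cases x <;> rfl
      rw [E, this, rg_id, RingHom.comp_id]
    have e0 : E A α 0 0 = (α.comp (rg A (pr ⟨0⟩))).comp (rg A (edge (n := 0) 0 0)) := by
      rw [E, RingHom.comp_assoc, ← rg_comp]
      congr 2
      funext x; fin_cases x <;> rfl
    rw [cp_edges hA α 0 1 0 _ _ rfl e1, e0]

theorem isGrpd : K412.IsGrpd A (grpd hA) where
  s := rfl
  t := rfl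
  comp χ h := cp_eq hA χ _ _ rfl rfl h

/-- **R1** -/
theorem r1 : K412.R1.{u} := fun _ hA => ⟨grpd hA, isGrpd hA⟩

end Groth.Agent.ResProp.EF.K807.R1
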